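import Cfsg.Agent.Lib.Classical.OrthSiegel
import Cfsg.Agent.Lib.KnownA.SpTwoGen.Cases

/-!
# Root subgroups of orthogonal groups inside a subgroup
-/

set_option autoImplicit false
set_option linter.unusedSectionVars false

namespace CfsgLib.KnownA.OrthGen

open Module QuadraticMap CfsgLib.Orth CfsgLib.Classical

noncomputable section

variable {F V : Type*} [Field F] [AddCommGroup V] [Module F V] [FiniteDimensional F V]
  {Q : QuadraticForm F V}

/-- All multiples of `x` give Siegel transformations at `d` inside the subgroup. -/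
def Line (H : Subgroup (orthGroup Q)) (d x : V) : Prop :=
  polar Q d x = 0 ∧ ∀ c : F, SiegelIn H d (c • x)

/-- All Siegel transformations at `d` lie in the subgroup. -/
def Full (H : Subgroup (orthGroup Q)) (d : V) : Prop :=
  ∀ x, polar Q d x = 0 → SiegelIn H d x

variable {H : Subgroup (orthGroup Q)} {d e x y : V}

theorem Full.line (h : Full H d) (hx : polar Q d x = 0) : Line H d x :=
  ⟨hx, fun c => h _ (by rw [polar_smul_r', hx, mul_zero])⟩

theorem Line.mem (h : Line H d x) : SiegelIn H d x := by simpa using h.2 1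

theorem Line.smul (h : Line H d x) (c : F) : Line H d (c • x) :=
  ⟨by rw [polar_smul_r', h.1, mul_zero], fun a => by rw [smul_smul]; exact h.2 _⟩

theorem Line.unsmul {c : F} (h : Line H d (c • x)) (hc : c ≠ 0) : Line H d x := by
  have := h.smul c⁻¹
  rwa [inv_smul_smul₀ hc] at this

theorem SiegelIn.smul_left (hd : Q d = 0) {t : F} (ht : t ≠ 0) (h : SiegelIn H d (t • x)) :
    SiegelIn H (t • d) x :=
  fun g hg => h g (hg.of_smul ht)

theorem SiegelIn.of_smul_left (hd : Q d = 0) {t : F} (ht : t ≠ 0) (h : SiegelIn H (t • d) x) :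
    SiegelIn H d (t • x) := by
  intro g hg
  refine h g ?_
  have : IsSiegel g (t⁻¹ • (t • d)) (t • x) := by rwa [inv_smul_smul₀ ht]
  simpa [smul_smul, inv_mul_cancel₀ ht] using this.of_smul (inv_ne_zero ht)

theorem Line.smul_left (hd : Q d = 0) (h : Line H d x) {t : F} (ht : t ≠ 0) : Line H (t • d) x :=
  ⟨by rw [polar_smul_l', h.1, mul_zero], fun c => SiegelIn.smul_left hd ht (by rw [smul_smul]; exact h.2 _)⟩

theorem Line.unsmul_left (hd : Q d = 0) {t : F} (ht : t ≠ 0) (h : Line H (t • d) x) : Line H d x := by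
  have := h.smul_left (by rw [quad_smul', hd, mul_zero]) (inv_ne_zero ht)
  rwa [inv_smul_smul₀ ht] at this

theorem isSiegel_swap {g : orthGroup Q} (hx : Q x = 0) (h : IsSiegel g x y) (hy : Q y = 0) :
    IsSiegel g y (-x) := by
  obtain ⟨-, hp, h⟩ := h
  refine ⟨hy, by rw [polar_neg_right, polar_comm, hp, neg_zero], fun v => ?_⟩
  rw [h v, hy, QuadraticMap.map_neg, hx, polar_neg_left]
  module

theorem Line.swap (hd : Q d = 0) (hx : Q x = 0) (h : Line H d x) : Line H x d := by
  refine ⟨by rw [polar_comm, h.1], fun c => ?_⟩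
  by_cases hc : c = 0
  · subst hc
    intro g hg
    rw [zero_smul] at hg
    rw [hg.unique (isSiegel_one hx)]
    exact one_mem _
  intro g hg
  have h1 := isSiegel_swap hx hg (by rw [quad_smul', hd, mul_zero])
  refine h.2 (-c) g ?_
  have := h1.of_smul hc
  rwa [smul_neg, ← neg_smul] at this

variable (hQ : (QuadraticMap.polarBilin Q).Nondegenerate)
include hQ

theorem Line.add (hd : Q d = 0) (h1 : Line H d x) (h2 : Line H d y) : Line H d (x + y) :=
  ⟨by rw [polar_add_right, h1.1, h2.1, add_zero], fun c => by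
    rw [smul_add]
    exact SiegelIn.add hQ hd (by rw [polar_smul_r', h1.1, mul_zero])
      (by rw [polar_smul_r', h2.1, mul_zero]) (h1.2 c) (h2.2 c)⟩

omit hQ in
theorem Line.self (hd : Q d = 0) : Line H d d :=
  ⟨by rw [polar_self', hd, mul_zero], fun c => siegelIn_smul_self H hd c⟩

omit hQ in
theorem Line.zero (hd : Q d = 0) : Line H d 0 := by
  simpa using (Line.self (H := H) hd).smul 0

theorem Line.neg (h : Line H d x) : Line H d (-x) := by simpa using h.smul (-1)

theorem Line.sub (hd : Q d = 0) (h1 : Line H d x) (h2 : Line H d y) : Line H d (x - y) := by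
  rw [sub_eq_add_neg]
  exact h1.add hQ hd (h2.neg hQ)

omit hQ in
theorem SiegelIn.map {g : orthGroup Q} (hg : g ∈ H) (h : SiegelIn H d x) :
    SiegelIn H (g.1 d) (g.1 x) := by
  intro k hk
  have h1 := hk.conj g⁻¹
  rw [inv_inv, show (g⁻¹).1 (g.1 d) = d from g.1.symm_apply_apply d,
    show (g⁻¹).1 (g.1 x) = x from g.1.symm_apply_apply x] at h1
  have := mul_mem (mul_mem hg (h _ h1)) (inv_mem hg)
  rwa [show g * (g⁻¹ * k * g) * g⁻¹ = k by group] at this

omit hQ in
theorem Line.map {g : orthGroup Q} (hg : g ∈ H) (h : Line H d x) : Line H (g.1 d) (g.1 x) :=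
  ⟨by rw [polar_isom, h.1], fun c => by rw [← map_smul]; exact SiegelIn.map hg (h.2 c)⟩

omit hQ in
theorem Line.of_map {g : orthGroup Q} (hg : g ∈ H) (h : Line H (g.1 d) (g.1 x)) : Line H d x := by
  have := h.map (inv_mem hg)
  rwa [show (g⁻¹).1 (g.1 d) = d from g.1.symm_apply_apply d,
    show (g⁻¹).1 (g.1 x) = x from g.1.symm_apply_apply x] at this

omit hQ in
theorem Full.map {g : orthGroup Q} (hg : g ∈ H) (h : Full H d) : Full H (g.1 d) := by
  intro x hx
  rw [← inv_apply g x] at hx ⊢
  exact SiegelIn.map hg (h _ (by rwa [polar_isom] at hx))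

omit hQ in
theorem Full.smul (hd : Q d = 0) (h : Full H d) {t : F} (ht : t ≠ 0) : Full H (t • d) := by
  intro x hx
  rw [polar_smul_l', mul_eq_zero] at hx
  exact SiegelIn.smul_left hd ht (h _ (by rw [polar_smul_r', hx.resolve_left ht, mul_zero]))

/-- The effect on `x ∈ e^⊥` of a Siegel transformation fixing `e`. -/
theorem Line.step (he : Q e = 0) (hd : Q d = 0) (hde : polar Q d e = 0) (hye : polar Q y e = 0)
    (hy : Line H d y) (hx : Line H e x) :
    Line H e (polar Q d x • y + (-(polar Q y x) - Q y * polar Q d x) • d) := by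
  obtain ⟨g, hg⟩ := exists_isSiegel hQ hd hy.1
  have hgH : g ∈ H := hy.mem g hg
  have h1 : g.1 e = e := by rw [hg.2.2, hde, hye]; simp
  have := (hx.map hgH)
  rw [h1, hg.2.2] at this
  have := this.sub hQ he hx
  rwa [add_assoc, add_sub_cancel_left] at this

end

end CfsgLib.KnownA.OrthGen
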