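import Cfsg.Agent.Lib.KnownA.OrthGen.Basic

/-!
# Frames of hyperbolic pairs with a cyclic monomial isometry
-/

set_option autoImplicit false
set_option linter.unusedSectionVars false

namespace CfsgLib.KnownA.OrthGen

open Module QuadraticMap CfsgLib.Orth CfsgLib.Classical

noncomputable section

variable {F V : Type*} [Field F] [AddCommGroup V] [Module F V] [FiniteDimensional F V]
  {Q : QuadraticForm F V}

/-- Hyperbolic pairs with two further vectors spanning the rest of the space. -/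
structure Frame (Q : QuadraticForm F V) (n : ℕ) where
  /-- The first vectors. -/
  E : ℕ → V
  /-- The second vectors. -/
  Fv : ℕ → V
  /-- A vector in the rest. -/
  a : V
  /-- A second vector in the rest. -/
  b : V
  qE : ∀ i, i < n → Q (E i) = 0
  qF : ∀ i, i < n → Q (Fv i) = 0
  pEF : ∀ i, i < n → ∀ j, j < n → i ≠ j → polar Q (E i) (Fv j) = 0
  pEF_self : ∀ i, i < n → polar Q (E i) (Fv i) = 1
  pEE : ∀ i, i < n → ∀ j, j < n → polar Q (E i) (E j) = 0
  pFF : ∀ i, i < n → ∀ j, j < n → polar Q (Fv i) (Fv j) = 0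
  pEa : ∀ i, i < n → polar Q (E i) a = 0
  pFa : ∀ i, i < n → polar Q (Fv i) a = 0
  pEb : ∀ i, i < n → polar Q (E i) b = 0
  pFb : ∀ i, i < n → polar Q (Fv i) b = 0
  span_eq : ∀ x : V, x ∈ Submodule.span F (E '' Set.Iio n ∪ Fv '' Set.Iio n ∪ {a, b})

variable {n : ℕ}

/-- The isometry `w` cycles the pairs and exchanges `a`, `b`. -/
structure Cyc (R : Frame Q n) (w : orthGroup Q) (s : F) : Prop where
  s_ne : s ≠ 0
  wE : ∀ i, i + 1 < n → w.1 (R.E i) = R.E (i + 1)
  wF : ∀ i, i + 1 < n → w.1 (R.Fv i) = R.Fv (i + 1)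
  wE_last : w.1 (R.E (n - 1)) = s • R.Fv 0
  wF_last : w.1 (R.Fv (n - 1)) = s⁻¹ • R.E 0
  wa : w.1 R.a = R.b
  wb : w.1 R.b = R.a

variable (R : Frame Q n)

theorem Frame.pFE {i j : ℕ} (hi : i < n) (hj : j < n) (h : i ≠ j) : polar Q (R.Fv i) (R.E j) = 0 := by
  rw [polar_comm, R.pEF j hj i hi h.symm]

theorem Frame.pFE_self {i : ℕ} (hi : i < n) : polar Q (R.Fv i) (R.E i) = 1 := by
  rw [polar_comm, R.pEF_self i hi]

theorem Frame.paE {i : ℕ} (hi : i < n) : polar Q R.a (R.E i) = 0 := by rw [polar_comm, R.pEa i hi]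
theorem Frame.paF {i : ℕ} (hi : i < n) : polar Q R.a (R.Fv i) = 0 := by rw [polar_comm, R.pFa i hi]
theorem Frame.pbE {i : ℕ} (hi : i < n) : polar Q R.b (R.E i) = 0 := by rw [polar_comm, R.pEb i hi]
theorem Frame.pbF {i : ℕ} (hi : i < n) : polar Q R.b (R.Fv i) = 0 := by rw [polar_comm, R.pFb i hi]

variable {R} {H : Subgroup (orthGroup Q)} {w : orthGroup Q} {s : F}

theorem Cyc.shiftEE (hC : Cyc R w s) (hw : w ∈ H) {i j : ℕ} (hi : i + 1 < n) (hj : j + 1 < n)
    (h : Line H (R.E i) (R.E j)) : Line H (R.E (i + 1)) (R.E (j + 1)) := by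
  have := h.map hw
  rwa [hC.wE i hi, hC.wE j hj] at this

theorem Cyc.shiftFF (hC : Cyc R w s) (hw : w ∈ H) {i j : ℕ} (hi : i + 1 < n) (hj : j + 1 < n)
    (h : Line H (R.Fv i) (R.Fv j)) : Line H (R.Fv (i + 1)) (R.Fv (j + 1)) := by
  have := h.map hw
  rwa [hC.wF i hi, hC.wF j hj] at this

/-- From one root subgroup, its translates. -/
theorem Cyc.lines (hC : Cyc R w s) (hw : w ∈ H) (hn : 2 ≤ n)
    (h : Line H (R.E 0) (R.E 1)) :
    (∀ i, i + 1 < n → Line H (R.E i) (R.E (i + 1))) ∧
      ∀ i, i + 1 < n → Line H (R.Fv i) (R.Fv (i + 1)) := by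
  have hE : ∀ i, i + 1 < n → Line H (R.E i) (R.E (i + 1)) := by
    intro i
    induction i with
    | zero => intro _; exact h
    | succ i ih => intro hi; exact hC.shiftEE hw (by omega) (by omega) (ih (by omega))
  refine ⟨hE, ?_⟩
  have h1 := (hE (n - 2) (by omega)).map hw
  rw [hC.wE (n - 2) (by omega), show n - 2 + 1 = n - 1 by omega, hC.wE_last] at h1
  have h2 := (h1.unsmul hC.s_ne).map hw
  rw [hC.wE_last, hC.wF 0 (by omega)] at h2
  have h3 := h2.unsmul_left (R.qF 0 (by omega)) hC.s_ne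
  intro i
  induction i with
  | zero => intro _; exact h3
  | succ i ih => intro hi; exact hC.shiftFF hw (by omega) (by omega) (ih (by omega))

/-- If all Siegel transformations at `E 0` lie in the subgroup, the same holds at all frame vectors. -/
theorem Cyc.full_all (hC : Cyc R w s) (hw : w ∈ H) (hn : 1 ≤ n) (h : Full H (R.E 0)) :
    (∀ i, i < n → Full H (R.E i)) ∧ ∀ i, i < n → Full H (R.Fv i) := by
  have hE : ∀ i, i < n → Full H (R.E i) := by
    intro i
    induction i with
    | zero => intro _; exact h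
    | succ i ih =>
      intro hi
      rw [← hC.wE i hi]
      exact (ih (by omega)).map hw
  refine ⟨hE, ?_⟩
  intro i
  induction i with
  | zero =>
    intro _
    have := (hE (n - 1) (by omega)).map hw
    rw [hC.wE_last] at this
    have h2 := this.smul (by rw [quad_smul', R.qF 0 (by omega), mul_zero]) (inv_ne_zero hC.s_ne)
    rwa [inv_smul_smul₀ hC.s_ne] at h2
  | succ i ih =>
    intro hi
    rw [← hC.wF i hi]
    exact (ih (by omega)).map hw

variable (hQ : (QuadraticMap.polarBilin Q).Nondegenerate)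
include hQ

/-- A singular vector is moved to a multiple of a partner of a frame vector. -/
theorem exists_move {d p p' : V} (hd : Q d = 0) (hp : Q p = 0) (hp' : Q p' = 0)
    (hpp : polar Q p p' = 1) (hg : polar Q p d ≠ 0) (hfull : Full H p) :
    ∃ g ∈ H, ∃ t : F, t ≠ 0 ∧ g.1 d = t • p' := by
  set γ := polar Q p d with hγ
  set r := d - γ • p' - polar Q p' d • p with hr
  set u := (-γ⁻¹) • r with hu
  have hpu : polar Q p u = 0 := by
    simp only [hu, hr, polar_smul_r', polar_sub_right, polar_self', hp, hpp, ← hγ]; ring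
  obtain ⟨g, hg'⟩ := exists_isSiegel hQ hp hpu
  refine ⟨g, hfull u hpu g hg', γ, hg, ?_⟩
  have e : ∃ X : F, g.1 d = γ • p' + X • p := by
    refine ⟨polar Q p' d + (-(polar Q u d) - Q u * γ), ?_⟩
    rw [hg'.2.2, ← hγ, hu, hr]
    match_scalars <;> field_simp <;> ring
  obtain ⟨X, hX⟩ := e
  have hq := apply_quad g d
  rw [hX, hd, quad_add', quad_smul', quad_smul', hp, hp', polar_smul_l', polar_smul_r',
    polar_comm _ p', hpp] at hq
  have : X = 0 := by
    have : γ * X = 0 := by linear_combination hq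
    exact (mul_eq_zero.1 this).resolve_left hg
  rw [hX, this, zero_smul, add_zero]

/-- All Siegel transformations at `E 0` together with the cycle generate everything. -/
theorem Cyc.top_of (hC : Cyc R w s) (hw : w ∈ H) (hn : 1 ≤ n) (h : Full H (R.E 0)) :
    siegelGroup Q ≤ H := by
  obtain ⟨hE, hF⟩ := hC.full_all hw hn h
  have key : ∀ d : V, Q d = 0 → ∀ i, i < n → (polar Q (R.E i) d ≠ 0 ∨ polar Q (R.Fv i) d ≠ 0) →
      Full H d := by
    intro d hd i hi hne
    rcases hne with hne | hne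
    · obtain ⟨g, hg, t, ht, e⟩ := exists_move hQ hd (R.qE i hi) (R.qF i hi) (R.pEF_self i hi) hne (hE i hi)
      have h1 := ((hF i hi).smul (R.qF i hi) ht).map (inv_mem hg)
      rwa [← e, show (g⁻¹).1 (g.1 d) = d from g.1.symm_apply_apply d] at h1
    · obtain ⟨g, hg, t, ht, e⟩ := exists_move hQ hd (R.qF i hi) (R.qE i hi) (R.pFE_self hi) hne (hF i hi)
      have h1 := ((hE i hi).smul (R.qE i hi) ht).map (inv_mem hg)
      rwa [← e, show (g⁻¹).1 (g.1 d) = d from g.1.symm_apply_apply d] at h1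
  have hall : ∀ d : V, Q d = 0 → d ≠ 0 → Full H d := by
    intro d hd hd0
    by_cases hex : ∃ i, i < n ∧ (polar Q (R.E i) d ≠ 0 ∨ polar Q (R.Fv i) d ≠ 0)
    · obtain ⟨i, hi, hne⟩ := hex
      exact key d hd i hi hne
    push Not at hex
    obtain ⟨x, hxe, hxd⟩ : ∃ x, polar Q (R.E 0) x = 0 ∧ polar Q x d ≠ 0 := by
      by_contra hne
      push Not at hne
      apply hd0
      refine eq_zero_of_polar hQ fun y => ?_
      have hy := R.span_eq y
      induction hy using Submodule.span_induction with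
      | mem z hz =>
        rw [polar_comm]
        rcases hz with (⟨i, hi, rfl⟩ | ⟨i, hi, rfl⟩) | rfl | rfl
        · exact (hex i hi).1
        · exact (hex i hi).2
        · exact hne _ (R.pEa 0 (by omega))
        · exact hne _ (R.pEb 0 (by omega))
      | zero => exact polar_zero_right _ _
      | add z z' _ _ hz hz' => rw [polar_add_right, hz, hz', add_zero]
      | smul c z _ hz => rw [polar_smul_r', hz, mul_zero]
    obtain ⟨g, hg⟩ := exists_isSiegel hQ (R.qE 0 (by omega)) hxe
    have hgH : g ∈ H := h x hxe g hg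
    have hgd : polar Q (R.Fv 0) (g.1 d) ≠ 0 := by
      rw [hg.2.2, (hex 0 (by omega)).1]
      simp [polar_add_right, polar_smul_r', (hex 0 (by omega)).2, R.pFE_self (show 0 < n by omega), hxd]
    have := (key (g.1 d) ((apply_quad g d).trans hd) 0 (by omega) (Or.inr hgd)).map (inv_mem hgH)
    rwa [show (g⁻¹).1 (g.1 d) = d from g.1.symm_apply_apply d] at this
  refine (Subgroup.closure_le _).2 ?_
  rintro g ⟨d, u, hg⟩
  by_cases hd0 : d = 0
  · subst hd0
    have : g = 1 := Subtype.ext (LinearEquiv.ext fun v => by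
      rw [hg.2.2]; show _ = v; simp)
    rw [this]
    exact H.one_mem
  · exact hall d hg.1 hd0 u hg.2.1 g hg

end

end CfsgLib.KnownA.OrthGen
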