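import Cfsg.Agent.Lib.KnownA.OrthGen.Frame

/-!
# A monomial isometry, a torus element and one Siegel transformation generate
-/

set_option autoImplicit false
set_option linter.unusedSectionVars false

namespace CfsgLib.KnownA.OrthGen

open Module QuadraticMap CfsgLib.Orth CfsgLib.Classical

noncomputable section

variable {F V : Type*} [Field F] [Fintype F] [AddCommGroup V] [Module F V] [FiniteDimensional F V]
  {Q : QuadraticForm F V} {n : ℕ}

/-- The hypotheses on the subgroup: the cycle and a torus element acting by `ω²` at `E 0`. -/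
structure Setup (R : Frame Q n) (H : Subgroup (orthGroup Q)) (w : orthGroup Q) (s : F) : Prop where
  nondeg : (QuadraticMap.polarBilin Q).Nondegenerate
  cyc : Cyc R w s
  memw : w ∈ H
  torus : ∃ ω : Fˣ, (∀ x : Fˣ, x ∈ Subgroup.zpowers ω) ∧ ∃ h ∈ H,
    h.1 (R.E 0) = ((ω : F) * ω) • R.E 0 ∧
      ∀ x, polar Q (R.E 0) x = 0 → ∃ c : F, h.1 x = x + c • R.E 0

variable {R : Frame Q n} {H : Subgroup (orthGroup Q)} {w : orthGroup Q} {s : F}

/-- The torus makes the set of parameters at `E 0` a subspace. -/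
theorem Setup.lift (S : Setup R H w s) (hn : 1 ≤ n) {x : V} (hx : polar Q (R.E 0) x = 0)
    (hm : SiegelIn H (R.E 0) x) : Line H (R.E 0) x := by
  obtain ⟨ω, hω, h, hh, he, hfix⟩ := S.torus
  have hQ := S.nondeg
  have hd := R.qE 0 (by omega)
  have hp : ∀ c : F, polar Q (R.E 0) (c • x) = 0 := fun c => by rw [polar_smul_r', hx, mul_zero]
  have step : ∀ c : F, SiegelIn H (R.E 0) (c • x) → SiegelIn H (R.E 0) (((ω : F) * ω * c) • x) := by
    intro c hc
    have h1 := SiegelIn.map hh hc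
    obtain ⟨k, hk⟩ := hfix _ (hp c)
    rw [he, hk] at h1
    have h2 := SiegelIn.of_smul_left hd (mul_ne_zero ω.ne_zero ω.ne_zero) h1
    have h3 := SiegelIn.add hQ hd (u := ((ω : F) * ω) • (c • x + k • R.E 0))
      (w := (-((ω : F) * ω * k)) • R.E 0)
      (by rw [polar_smul_r', polar_add_right, hp, polar_smul_r', polar_self', hd]; ring)
      (by rw [polar_smul_r', polar_self', hd]; ring) h2 (siegelIn_smul_self H hd _)
    have e : ((ω : F) * ω) • (c • x + k • R.E 0) + (-((ω : F) * ω * k)) • R.E 0 =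
        ((ω : F) * ω * c) • x := by module
    rwa [e] at h3
  have hadd : ∀ c d : F, SiegelIn H (R.E 0) (c • x) → SiegelIn H (R.E 0) (d • x) →
      SiegelIn H (R.E 0) ((c + d) • x) := fun c d h1 h2 => by
    rw [add_smul]; exact SiegelIn.add hQ hd (hp c) (hp d) h1 h2
  have hsq : ∀ a : F, SiegelIn H (R.E 0) ((a ^ 2) • x) := by
    intro a
    by_cases h0 : a = 0
    · subst h0
      intro g hg
      rw [zero_pow (by norm_num), zero_smul] at hg
      rw [hg.unique (isSiegel_one hd)]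
      exact H.one_mem
    obtain ⟨k, hk⟩ := (Submonoid.mem_powers_iff _ _).1
      (mem_powers_iff_mem_zpowers.2 (hω (Units.mk0 a h0)))
    have ha : a = (ω : F) ^ k := by rw [← Units.val_pow_eq_pow_val, hk, Units.val_mk0]
    subst ha
    clear hk h0
    induction k with
    | zero => simpa using hm
    | succ k ih =>
      have := step _ ih
      rwa [show (ω : F) * ω * ((ω : F) ^ k) ^ 2 = ((ω : F) ^ (k + 1)) ^ 2 by ring] at this
  refine ⟨hx, fun c => ?_⟩
  obtain ⟨p, q, hpq⟩ := CfsgLib.KnownA.SpTwoGen.exists_sum_two_sq c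
  rw [← hpq]
  exact hadd _ _ (hsq p) (hsq q)

/-- From the lines spanning `(E 0)^⊥` everything follows. -/
theorem Setup.finish (S : Setup R H w s) (hn : 1 ≤ n)
    (hlines : ∀ i, 1 ≤ i → i < n → Line H (R.E 0) (R.E i) ∧ Line H (R.E 0) (R.Fv i))
    (ha : Line H (R.E 0) R.a) (hb : Line H (R.E 0) R.b) : siegelGroup Q ≤ H := by
  refine S.cyc.top_of S.nondeg S.memw hn fun x hx => ?_
  have hd := R.qE 0 (by omega)
  have key : ∃ c : F, ∃ y, Line H (R.E 0) y ∧ x = y + c • R.Fv 0 := by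
    have hx' := R.span_eq x
    clear hx
    induction hx' using Submodule.span_induction with
    | mem z hz =>
      rcases hz with (⟨i, hi, rfl⟩ | ⟨i, hi, rfl⟩) | rfl | rfl
      · refine ⟨0, R.E i, ?_, by simp⟩
        rcases Nat.eq_zero_or_pos i with rfl | hi0
        · exact Line.self hd
        · exact (hlines i hi0 hi).1
      · rcases Nat.eq_zero_or_pos i with rfl | hi0
        · exact ⟨1, 0, Line.zero hd, by simp⟩
        · exact ⟨0, R.Fv i, (hlines i hi0 hi).2, by simp⟩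
      · exact ⟨0, _, ha, by simp⟩
      · exact ⟨0, _, hb, by simp⟩
    | zero => exact ⟨0, 0, Line.zero hd, by simp⟩
    | add z z' _ _ h1 h2 =>
      obtain ⟨c, y, hy, rfl⟩ := h1
      obtain ⟨c', y', hy', rfl⟩ := h2
      exact ⟨c + c', y + y', hy.add S.nondeg hd hy', by module⟩
    | smul t z _ h1 =>
      obtain ⟨c, y, hy, rfl⟩ := h1
      exact ⟨t * c, t • y, hy.smul t, by module⟩
  obtain ⟨c, y, hy, rfl⟩ := key
  rw [polar_add_right, hy.1, polar_smul_r', R.pEF_self 0 (by omega), zero_add, mul_one] at hx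
  rw [hx, zero_smul, add_zero]
  exact hy.mem

/-- The lines at the frame vectors from two of them. -/
theorem Setup.spread (S : Setup R H w s) (hn : 2 ≤ n) (h1 : Line H (R.E 0) (R.E 1))
    (h1' : Line H (R.E 0) (R.Fv 1)) :
    ∀ i, 1 ≤ i → i < n → Line H (R.E 0) (R.E i) ∧ Line H (R.E 0) (R.Fv i) := by
  obtain ⟨lE, lF⟩ := S.cyc.lines S.memw hn h1
  have hd := R.qE 0 (by omega)
  intro i hi1
  induction i, hi1 using Nat.le_induction with
  | base => intro _; exact ⟨h1, h1'⟩
  | succ i hi ih =>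
    intro hlt
    obtain ⟨gE, gF⟩ := ih (by omega)
    constructor
    · have := Line.step S.nondeg hd (R.qE i (by omega)) (R.pEE i (by omega) 0 (by omega))
        (R.pEE (i + 1) hlt 0 (by omega)) (lE i hlt) gF
      simpa [R.pEF_self i (by omega), R.pEF (i + 1) hlt i (by omega) (by omega), R.qE (i + 1) hlt]
        using this
    · have := Line.step S.nondeg hd (R.qF i (by omega)) (R.pFE (by omega) (by omega) (by omega))
        (R.pFE hlt (by omega) (by omega)) (lF i hlt) gE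
      simpa [R.pFE_self (show i < n by omega), R.pFE hlt (show i < n by omega) (by omega), R.qF (i + 1) hlt]
        using this

/-- The rank at least three conclusion. -/
theorem Setup.of_three (S : Setup R H w s) (hn : 3 ≤ n) {x0 : V} {κ : F}
    (hx0 : x0 = R.Fv 1 + κ • R.E 1 + R.b) (h0 : Line H (R.E 0) x0)
    (hE1 : Line H (R.E 0) (R.E 1)) (hE2 : Line H (R.E 0) (R.E 2)) (ha : Line H (R.E 0) R.a) :
    siegelGroup Q ≤ H := by
  obtain ⟨lE, lF⟩ := S.cyc.lines S.memw (by omega) hE1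
  have hd := R.qE 0 (by omega)
  have hF1 : Line H (R.E 0) (R.Fv 1) := by
    have h2 : Line H (R.Fv 2) (R.Fv 1) :=
      (lF 1 (by omega)).swap (R.qF 1 (by omega)) (R.qF 2 (by omega))
    have := Line.step S.nondeg hd (R.qF 2 (by omega)) (R.pFE (by omega) (by omega) (by omega))
      (R.pFE (by omega) (by omega) (by omega)) h2 hE2
    simpa [R.pFE_self (show 2 < n by omega), R.pFE (show 1 < n by omega) (show 2 < n by omega) (by omega),
      R.qF 1 (by omega)] using this
  have hb : Line H (R.E 0) R.b := by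
    have := (h0.sub S.nondeg hd hF1).sub S.nondeg hd (hE1.smul κ)
    convert this using 1
    rw [hx0]; abel
  exact S.finish (by omega) (S.spread (by omega) hE1 hF1) ha hb

variable (S : Setup R H w s)
include S

/-- The translates of the starting Siegel transformation. -/
theorem Setup.start (hn : 2 ≤ n) {v v' : V} (hv : Line H (R.E 1) v) (hwv : w.1 v' = v) :
    Line H (R.E 0) v' := by
  refine Line.of_map S.memw ?_
  rw [S.cyc.wE 0 (by omega), hwv]
  exact hv

theorem Setup.startMem (hn : 2 ≤ n) {v v' : V} (hp : polar Q (R.E 1) v = 0)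
    (hv : SiegelIn H (R.E 1) v) (hwv : w.1 v' = v) : Line H (R.E 0) v' ∧ Line H (R.E 1) v := by
  have e1 : w.1 (R.E 0) = R.E 1 := S.cyc.wE 0 (by omega)
  have h1 := SiegelIn.map (inv_mem S.memw) hv
  rw [← hwv, ← e1, show (w⁻¹).1 (w.1 (R.E 0)) = R.E 0 from w.1.symm_apply_apply _,
    show (w⁻¹).1 (w.1 v') = v' from w.1.symm_apply_apply _] at h1
  have hp' : polar Q (R.E 0) v' = 0 := by rw [← polar_isom w, e1, hwv, hp]
  have hl := S.lift (by omega) hp' h1
  refine ⟨hl, ?_⟩
  have := hl.map S.memw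
  rwa [e1, hwv] at this

/-- The generic case: rank at least four, or rank three with no `E`-component. -/
theorem Setup.generic (hn : 3 ≤ n) {κ : F} (hκn : κ = 0 ∨ 4 ≤ n)
    (hu : SiegelIn H (R.E 1) (R.Fv 2 + κ • R.E 2 + R.a)) (hQv : κ + Q R.a ≠ 0)
    (hcase : polar Q R.a R.b ≠ 0 ∨ (κ = 0 ∧ (2 : F) ≠ 0)) : siegelGroup Q ≤ H := by
  have hQ := S.nondeg
  have hd := R.qE 0 (by omega)
  set β := polar Q R.a R.b with hβ
  set v := R.Fv 2 + κ • R.E 2 + R.a with hv
  have n0 : 0 < n := by omega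
  have n1 : 1 < n := by omega
  have n2 : 2 < n := by omega
  have qv : Q v = κ + Q R.a := by
    simp [hv, quad_add', quad_smul', polar_add_left, polar_smul_r', polar_smul_l', R.qE 2 n2,
      R.qF 2 n2, R.pFE_self n2, R.pFa 2 n2, R.pEa 2 n2]
  have p1v : polar Q (R.E 1) v = 0 := by
    simp [hv, polar_add_right, polar_smul_r', R.pEF 1 n1 2 n2 (by omega), R.pEE 1 n1 2 n2, R.pEa 1 n1]
  set x0 := R.Fv 1 + κ • R.E 1 + R.b with hx0
  have wx0 : w.1 x0 = v := by
    rw [hx0, hv, map_add, map_add, map_smul, S.cyc.wF 1 (by omega), S.cyc.wE 1 (by omega), S.cyc.wb]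
  obtain ⟨L0, Lv⟩ := S.startMem (by omega) p1v hu wx0
  -- the image of `v`
  set v2 := w.1 v with hv2
  have hL2 : Line H (R.E 2) v2 := by
    have := Lv.map S.memw
    rwa [S.cyc.wE 1 (by omega)] at this
  have hv2' : ∃ p : V, v2 = p + R.b ∧ polar Q (R.E 0) p = 0 ∧ polar Q (R.E 1) p = 0 ∧
      polar Q (R.E 2) p = 0 ∧ polar Q (R.Fv 2) p = 0 ∧ polar Q R.a p = 0 := by
    rcases (Nat.lt_or_ge 3 n) with h4 | h4
    · refine ⟨R.Fv 3 + κ • R.E 3, ?_, ?_, ?_, ?_, ?_, ?_⟩
      · rw [hv2, hv, map_add, map_add, map_smul, S.cyc.wF 2 (by omega), S.cyc.wE 2 (by omega),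
          S.cyc.wa]
      · simp [polar_add_right, polar_smul_r', R.pEF 0 n0 3 h4 (by omega), R.pEE 0 n0 3 h4]
      · simp [polar_add_right, polar_smul_r', R.pEF 1 n1 3 h4 (by omega), R.pEE 1 n1 3 h4]
      · simp [polar_add_right, polar_smul_r', R.pEF 2 n2 3 h4 (by omega), R.pEE 2 n2 3 h4]
      · simp [polar_add_right, polar_smul_r', R.pFF 2 n2 3 h4, R.pFE n2 h4 (by omega)]
      · simp [polar_add_right, polar_smul_r', R.paF h4, R.paE h4]
    · have hκ : κ = 0 := hκn.resolve_right (by omega)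
      obtain rfl : n = 3 := by omega
      refine ⟨s⁻¹ • R.E 0, ?_, ?_, ?_, ?_, ?_, ?_⟩
      · have h3 : w.1 (R.Fv 2) = s⁻¹ • R.E 0 := S.cyc.wF_last
        rw [hv2, hv, hκ, zero_smul, add_zero, map_add, h3, S.cyc.wa]
      · rw [polar_smul_r', polar_self', hd]; ring
      · simp [polar_smul_r', R.pEE 1 n1 0 n0]
      · simp [polar_smul_r', R.pEE 2 n2 0 n0]
      · simp [polar_smul_r', R.pFE n2 n0 (by omega)]
      · simp [polar_smul_r', R.paE n0]
  obtain ⟨p, hp, hp0, hp1, hp2, hp2', hpa⟩ := hv2'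
  have qv2 : Q v2 = Q v := apply_quad w v
  have v2v : polar Q v2 v = β := by
    simp [hp, hv, polar_add_left, polar_add_right, polar_smul_r', polar_comm _ p, hp2, hp2', hpa,
      R.pbF n2, R.pbE n2, polar_comm _ R.b, hβ]
  have v2E1 : polar Q v2 (R.E 1) = 0 := by
    simp [hp, polar_add_left, polar_comm _ p, hp1, R.pbE n1]
  have v2E0 : polar Q v2 (R.E 0) = 0 := by
    simp [hp, polar_add_left, polar_comm _ p, hp0, R.pbE n0]
  have v2F2 : polar Q v2 (R.Fv 2) = 0 := by
    simp [hp, polar_add_left, polar_comm _ p, hp2', R.pbF n2]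
  have v2E2 : polar Q (R.E 2) v2 = 0 := hL2.1
  have pvE0 : polar Q v (R.E 0) = 0 := by
    simp [hv, polar_add_left, polar_smul_l', R.pFE n2 n0 (by omega), R.pEE 2 n2 0 n0, R.paE n0]
  have pvE2 : polar Q v (R.E 2) = 1 := by
    simp [hv, polar_add_left, polar_smul_l', R.pFE_self n2, polar_self', R.qE 2 n2, R.paE n2]
  -- the three steps
  have hx1 : Line H (R.E 0) (v + (-β - Q v) • R.E 1) := by
    have := Line.step hQ hd (R.qE 1 n1) (R.pEE 1 n1 0 n0) pvE0 Lv L0
    have e1 : polar Q (R.E 1) x0 = 1 := by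
      simp [hx0, polar_add_right, polar_smul_r', R.pEF_self 1 n1, polar_self', R.qE 1 n1, R.pEb 1 n1]
    have e2 : polar Q v x0 = β := by
      simp [hv, hx0, polar_add_left, polar_add_right, polar_smul_r', polar_smul_l', R.pFF 2 n2 1 n1,
        R.pFE n2 n1 (by omega), R.pEF 2 n2 1 n1 (by omega), R.pEE 2 n2 1 n1, R.pFb 2 n2, R.pEb 2 n2,
        R.paE n1, R.paF n1, hβ]
    rwa [e1, e2, one_smul, mul_one] at this
  have hx2 : Line H (R.E 0) (v2 + (-β - Q v) • R.E 2) := by
    have := Line.step hQ hd (R.qE 2 n2) (R.pEE 2 n2 0 n0) v2E0 hL2 hx1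
    have e1 : polar Q (R.E 2) (v + (-β - Q v) • R.E 1) = 1 := by
      simp [polar_add_right, polar_smul_r', R.pEE 2 n2 1 n1, polar_comm _ (R.E 2) v, pvE2]
    have e2 : polar Q v2 (v + (-β - Q v) • R.E 1) = β := by
      simp [polar_add_right, polar_smul_r', v2E1, v2v]
    rwa [e1, e2, qv2, one_smul, mul_one] at this
  have hE1 : Line H (R.E 0) (R.E 1) := by
    have := Line.step hQ hd (R.qE 1 n1) (R.pEE 1 n1 0 n0) pvE0 Lv hx2
    have e1 : polar Q (R.E 1) (v2 + (-β - Q v) • R.E 2) = 0 := by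
      simp [polar_add_right, polar_smul_r', R.pEE 1 n1 2 n2, polar_comm _ (R.E 1) v2, v2E1]
    have e2 : polar Q v (v2 + (-β - Q v) • R.E 2) = -Q v := by
      simp [polar_add_right, polar_smul_r', polar_comm _ v v2, v2v, pvE2]; ring
    rw [e1, e2, zero_smul, zero_add, mul_zero, sub_zero, neg_neg] at this
    exact this.unsmul (qv ▸ hQv)
  obtain ⟨lE, lF⟩ := S.cyc.lines S.memw (by omega) hE1
  have hF2 : Line H (R.E 0) (R.Fv 2) := by
    have := Line.step hQ hd (R.qF 1 n1) (R.pFE n1 n0 (by omega)) (R.pFE n2 n0 (by omega))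
      (lF 1 (by omega)) hE1
    simpa [R.pFE_self n1, R.pFE n2 n1 (by omega), R.qF 2 n2] using this
  have haE : Line H (R.E 0) (κ • R.E 2 + R.a) := by
    have := (hx1.sub hQ hd hF2).sub hQ hd (hE1.smul (-β - Q v))
    convert this using 1
    rw [hv]; abel
  have hE2 : Line H (R.E 0) (R.E 2) := by
    by_cases hb0 : β = 0
    · obtain ⟨hκ, h2⟩ := hcase.resolve_left (not_not.2 hb0)
      rw [hκ, zero_smul, zero_add] at haE
      have hla : Line H (R.E 2) R.a := by
        have h1 := haE.map S.memw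
        rw [S.cyc.wE 0 (by omega), S.cyc.wa] at h1
        have h2 := h1.map S.memw
        rwa [S.cyc.wE 1 (by omega), S.cyc.wb] at h2
      have := Line.step hQ hd (R.qE 2 n2) (R.pEE 2 n2 0 n0) (R.paE n0) hla haE
      rw [R.pEa 2 n2, zero_smul, zero_add, mul_zero, sub_zero, polar_self'] at this
      have hQa : Q R.a ≠ 0 := by rwa [hκ, zero_add] at hQv
      exact this.unsmul (neg_ne_zero.2 (mul_ne_zero h2 hQa))
    · have := Line.step hQ hd (R.qE 2 n2) (R.pEE 2 n2 0 n0) v2E0 hL2 hF2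
      rw [R.pEF_self 2 n2, v2F2, one_smul, mul_one, qv2, neg_zero, zero_sub] at this
      have h3 := this.sub hQ hd hx2
      rw [show v2 + (-Q v) • R.E 2 - (v2 + (-β - Q v) • R.E 2) = β • R.E 2 by module] at h3
      exact h3.unsmul hb0
  have ha : Line H (R.E 0) R.a := by
    simpa using haE.sub hQ hd (hE2.smul κ)
  exact S.of_three hn hx0 L0 hE1 hE2 ha

/-- Rank three with `Q a = Q b = 0`, `polar a b = 1`. -/
theorem Setup.three (hn : n = 3) (hs : s = 1) (hu : SiegelIn H (R.E 1) (R.Fv 2 + R.E 2 + R.a))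
    (hqa : Q R.a = 0) (hqb : Q R.b = 0) (hab : polar Q R.a R.b = 1) : siegelGroup Q ≤ H := by
  subst hn hs
  have hQ := S.nondeg
  have n0 : 0 < 3 := by omega
  have n1 : 1 < 3 := by omega
  have n2 : 2 < 3 := by omega
  have hd := R.qE 0 n0
  have hba : polar Q R.b R.a = 1 := by rw [polar_comm, hab]
  have hbb : polar Q R.b R.b = 0 := by rw [polar_self', hqb, mul_zero]
  have haa : polar Q R.a R.a = 0 := by rw [polar_self', hqa, mul_zero]
  have wE2 : w.1 (R.E 2) = R.Fv 0 := by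
    have := S.cyc.wE_last
    rwa [one_smul] at this
  have wF2 : w.1 (R.Fv 2) = R.E 0 := by
    have := S.cyc.wF_last
    rwa [inv_one, one_smul] at this
  set v := R.Fv 2 + R.E 2 + R.a with hv
  set x0 := R.Fv 1 + R.E 1 + R.b with hx0
  have wx0 : w.1 x0 = v := by
    rw [hx0, hv, map_add, map_add, S.cyc.wF 1 n2, S.cyc.wE 1 n2, S.cyc.wb]
  have p1v : polar Q (R.E 1) v = 0 := by
    simp [hv, polar_add_right, R.pEF 1 n1 2 n2 (by omega), R.pEE 1 n1 2 n2, R.pEa 1 n1]
  obtain ⟨L0, Lv⟩ := S.startMem (by omega) p1v hu wx0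
  -- the translate at `Fv 1`
  set y := R.E 2 + R.Fv 2 + R.b with hy
  have hLy : Line H (R.Fv 1) y := by
    have h1 := Lv.map S.memw
    have e : w.1 v = R.E 0 + R.Fv 0 + R.b := by
      rw [hv, map_add, map_add, wF2, wE2, S.cyc.wa]
    rw [S.cyc.wE 1 n2, e] at h1
    have h2 := h1.map S.memw
    rw [wE2, map_add, map_add, S.cyc.wE 0 n1, S.cyc.wF 0 n1, S.cyc.wb] at h2
    have h3 := h2.map S.memw
    rwa [S.cyc.wF 0 n1, map_add, map_add, S.cyc.wE 1 n2, S.cyc.wF 1 n2, S.cyc.wa] at h3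
  have qy : Q y = 1 := by
    simp [hy, quad_add', polar_add_left, R.qE 2 n2, R.qF 2 n2, R.pEF_self 2 n2, hqb, R.pEb 2 n2,
      R.pFb 2 n2]
  have qv : Q v = 1 := by
    simp [hv, quad_add', polar_add_left, R.qE 2 n2, R.qF 2 n2, R.pFE_self n2, hqa, R.pEa 2 n2,
      R.pFa 2 n2]
  have pvE0 : polar Q v (R.E 0) = 0 := by
    simp [hv, polar_add_left, R.pFE n2 n0 (by omega), R.pEE 2 n2 0 n0, R.paE n0]
  have pyE0 : polar Q y (R.E 0) = 0 := by
    simp [hy, polar_add_left, R.pFE n2 n0 (by omega), R.pEE 2 n2 0 n0, R.pbE n0]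
  have pFE10 : polar Q (R.Fv 1) (R.E 0) = 0 := R.pFE n1 n0 (by omega)
  have hx1 : Line H (R.E 0) (v + (-2 : F) • R.E 1) := by
    have := Line.step hQ hd (R.qE 1 n1) (R.pEE 1 n1 0 n0) pvE0 Lv L0
    have e1 : polar Q (R.E 1) x0 = 1 := by
      simp [hx0, polar_add_right, R.pEF_self 1 n1, R.pEE 1 n1 1 n1, R.pEb 1 n1]
    have e2 : polar Q v x0 = 1 := by
      simp [hv, hx0, polar_add_left, polar_add_right, R.pFF 2 n2 1 n1, R.pFE n2 n1 (by omega),
        R.pEF 2 n2 1 n1 (by omega), R.pEE 2 n2 1 n1, R.pFb 2 n2, R.pEb 2 n2, R.paE n1, R.paF n1, hab]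
    rw [e1, e2, qv, one_smul, mul_one] at this
    convert this using 3
    ring
  have hyF : Line H (R.E 0) (y + (-1 : F) • R.Fv 1) := by
    have := Line.step hQ hd (R.qF 1 n1) pFE10 pyE0 hLy L0
    have e1 : polar Q (R.Fv 1) x0 = 1 := by
      simp [hx0, polar_add_right, R.pFE_self n1, R.pFF 1 n1 1 n1, R.pFb 1 n1]
    have e2 : polar Q y x0 = 0 := by
      simp [hy, hx0, polar_add_left, polar_add_right, R.pFF 2 n2 1 n1, R.pFE n2 n1 (by omega),
        R.pEF 2 n2 1 n1 (by omega), R.pEE 2 n2 1 n1, R.pFb 2 n2, R.pEb 2 n2, R.pbE n1, R.pbF n1, hbb]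
    rw [e1, e2, qy, one_smul, mul_one] at this
    convert this using 3
    ring
  have hE1 : Line H (R.E 0) (R.E 1) := by
    by_cases h2 : (2 : F) = 0
    · have hEa : Line H (R.E 0) (R.E 1 + R.a) := by
        have := ((L0.add hQ hd hyF).sub hQ hd hx1).sub hQ hd (Line.zero hd)
        have e : R.E 1 + R.a = x0 + (y + (-1 : F) • R.Fv 1) - (v + (-2 : F) • R.E 1) - 0 := by
          rw [hx0, hy, hv, show (-2 : F) = 0 by rw [h2, neg_zero]]
          linear_combination (norm := module) h2 • (R.a - R.b)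
        rwa [e]
      have hyl : Line H (R.E 0) y := by
        have := Line.step hQ hd (R.qF 1 n1) pFE10 pyE0 hLy hEa
        have e1 : polar Q (R.Fv 1) (R.E 1 + R.a) = 1 := by
          simp [polar_add_right, R.pFE_self n1, R.pFa 1 n1]
        have e2 : polar Q y (R.E 1 + R.a) = 1 := by
          simp [hy, polar_add_left, polar_add_right, R.pFE n2 n1 (by omega), R.pEE 2 n2 1 n1,
            R.pEa 2 n2, R.pFa 2 n2, R.pbE n1, hba]
        rw [e1, e2, qy, one_smul, mul_one, show (-1 - 1 : F) = 0 by linear_combination -h2, zero_smul,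
          add_zero] at this
        exact this
      have hF1 : Line H (R.E 0) (R.Fv 1) := by
        have := hyl.sub hQ hd hyF
        simpa using this
      have hEF : Line H (R.E 1) (R.Fv 2) := by
        have := hF1.map S.memw
        rwa [S.cyc.wE 0 n1, S.cyc.wF 1 n2] at this
      have := Line.step hQ hd (R.qE 1 n1) (R.pEE 1 n1 0 n0) (R.pFE n2 n0 (by omega)) hEF hyl
      have e1 : polar Q (R.E 1) y = 0 := by
        simp [hy, polar_add_right, R.pEE 1 n1 2 n2, R.pEF 1 n1 2 n2 (by omega), R.pEb 1 n1]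
      have e2 : polar Q (R.Fv 2) y = 1 := by
        simp [hy, polar_add_right, R.pFE_self n2, R.pFF 2 n2 2 n2, R.pFb 2 n2]
      rw [e1, e2, zero_smul, zero_add, mul_zero, sub_zero] at this
      exact this.unsmul (neg_ne_zero.2 one_ne_zero)
    · have := Line.step hQ hd (R.qE 1 n1) (R.pEE 1 n1 0 n0) pvE0 Lv hyF
      have e1 : polar Q (R.E 1) (y + (-1 : F) • R.Fv 1) = -1 := by
        simp [hy, polar_add_right, polar_smul_r', R.pEE 1 n1 2 n2, R.pEF 1 n1 2 n2 (by omega),
          R.pEb 1 n1, R.pEF_self 1 n1]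
      have e2 : polar Q v (y + (-1 : F) • R.Fv 1) = 3 := by
        simp [hy, hv, polar_add_left, polar_add_right, polar_smul_r', R.pFE_self n2, R.pEF_self 2 n2,
          R.pFF 2 n2 2 n2, R.pEE 2 n2 2 n2, R.pFb 2 n2, R.pEb 2 n2, R.paE n2, R.paF n2, hab,
          R.pFF 2 n2 1 n1, R.pEF 2 n2 1 n1 (by omega), R.paF n1]
        ring
      rw [e1, e2, qv] at this
      have h3 := this.add hQ hd hx1
      rw [show (-1 : F) • v + (-3 - 1 * -1 : F) • R.E 1 + (v + (-2 : F) • R.E 1) =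
        (-(2 * 2) : F) • R.E 1 by module] at h3
      exact h3.unsmul (neg_ne_zero.2 (mul_ne_zero h2 h2))
  obtain ⟨lE, lF⟩ := S.cyc.lines S.memw (by omega) hE1
  have hF2 : Line H (R.E 0) (R.Fv 2) := by
    have := Line.step hQ hd (R.qF 1 n1) pFE10 (R.pFE n2 n0 (by omega)) (lF 1 n2) hE1
    simpa [R.pFE_self n1, R.pFE n2 n1 (by omega), R.qF 2 n2] using this
  have haE : Line H (R.E 0) (R.E 2 + R.a) := by
    have := (hx1.sub hQ hd hF2).sub hQ hd (hE1.smul (-2))
    convert this using 1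
    rw [hv]; abel
  have hE2 : Line H (R.E 0) (R.E 2) := by
    have h1 := haE.map S.memw
    rw [S.cyc.wE 0 n1, map_add, wE2, S.cyc.wa] at h1
    have h2 := h1.map S.memw
    rw [S.cyc.wE 1 n2, map_add, S.cyc.wF 0 n1, S.cyc.wb] at h2
    have := Line.step hQ hd (R.qE 2 n2) (R.pEE 2 n2 0 n0)
      (by simp [polar_add_left, pFE10, R.paE n0]) h2 hE1
    simp [R.pEE 2 n2 1 n1, polar_add_left, R.pFE_self n1, R.paE n1] at this
    simpa using this.neg hQ
  have ha : Line H (R.E 0) R.a := by simpa using haE.sub hQ hd hE2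
  exact S.of_three (by omega) (κ := 1) (by rw [one_smul]) L0 hE1 hE2 ha

/-- The odd-dimensional case in rank two. -/
theorem Setup.two (hn : n = 2) (hu : SiegelIn H (R.E 1) R.a) (hab : R.b = -R.a) (h2 : (2 : F) ≠ 0)
    (hqa : Q R.a ≠ 0) : siegelGroup Q ≤ H := by
  subst hn
  have hQ := S.nondeg
  have n0 : 0 < 2 := by omega
  have n1 : 1 < 2 := by omega
  have hd := R.qE 0 n0
  obtain ⟨L0, Lv⟩ := S.startMem (by omega) (R.pEa 1 n1) hu S.cyc.wb
  rw [hab] at L0
  have ha : Line H (R.E 0) R.a := by simpa using L0.neg hQ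
  have h2a : polar Q R.a R.a ≠ 0 := by rw [polar_self']; exact mul_ne_zero h2 hqa
  have hE1 : Line H (R.E 0) (R.E 1) := by
    have := Line.step hQ hd (R.qE 1 n1) (R.pEE 1 n1 0 n0) (R.paE n0) Lv ha
    rw [R.pEa 1 n1, zero_smul, zero_add, mul_zero, sub_zero] at this
    exact this.unsmul (neg_ne_zero.2 h2a)
  have hF1 : Line H (R.E 0) (R.Fv 1) := by
    have h3 := Lv.map S.memw
    rw [show w.1 (R.E 1) = s • R.Fv 0 from S.cyc.wE_last, S.cyc.wa, hab] at h3
    have h4 : Line H (R.Fv 0) R.a := by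
      simpa using (h3.unsmul_left (R.qF 0 n0) S.cyc.s_ne).neg hQ
    have h5 := h4.map S.memw
    rw [S.cyc.wF 0 n1, S.cyc.wa, hab] at h5
    have h6 : Line H (R.Fv 1) R.a := by simpa using h5.neg hQ
    have := Line.step hQ hd (R.qF 1 n1) (R.pFE n1 n0 (by omega)) (R.paE n0) h6 ha
    rw [R.pFa 1 n1, zero_smul, zero_add, mul_zero, sub_zero] at this
    exact this.unsmul (neg_ne_zero.2 h2a)
  refine S.finish (by omega) (S.spread le_rfl hE1 hF1) ha ?_
  rw [hab]
  exact ha.neg hQ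

end

end CfsgLib.KnownA.OrthGen
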