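import Cfsg.Agent.Lib.KnownA.OrthGen.Weyl
import Cfsg.Agent.Lib.Orth.Standard

/-!
# The standard orthogonal groups are two-generated
-/

set_option autoImplicit false
set_option linter.unusedSectionVars false

namespace CfsgLib.KnownA.OrthGen

open Module QuadraticMap CfsgLib.Orth CfsgLib.Classical

noncomputable section

/-- Two generators of `Ω` give two generators of `PΩ`. -/
theorem pomega_two {F : Type*} [Field F] {ι : Type} [Fintype ι] [DecidableEq ι] {Qf : (ι → F) → F}
    (Q : QuadraticForm F (ι → F)) (hQf : ∀ v, Qf v = Q v)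
    (h : ∃ a b : orthGroup Q, Subgroup.closure {a, b} = commutator (orthGroup Q)) :
    ∃ a b : Cfsg.POmega F Qf, Subgroup.closure ({a, b} : Set (Cfsg.POmega F Qf)) = ⊤ := by
  obtain ⟨a, b, hab⟩ := h
  have ha : a ∈ commutator (orthGroup Q) := hab ▸ Subgroup.subset_closure (by simp)
  have hb : b ∈ commutator (orthGroup Q) := hab ▸ Subgroup.subset_closure (by simp)
  have htop : Subgroup.closure ({⟨a, ha⟩, ⟨b, hb⟩} : Set ↥(commutator (orthGroup Q))) = ⊤ := by
    apply Subgroup.map_injective (commutator (orthGroup Q)).subtype_injective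
    rw [MonoidHom.map_closure, Set.image_pair, ← MonoidHom.range_eq_map, Subgroup.range_subtype]
    exact hab
  let f : ↥(commutator (orthGroup Q)) →* Cfsg.POmega F Qf :=
    (QuotientGroup.mk' (Subgroup.center ↥(Cfsg.Omega F Qf))).comp (omegaEquiv Q hQf).symm.toMonoidHom
  have hf : Function.Surjective f :=
    (QuotientGroup.mk'_surjective _).comp (omegaEquiv Q hQf).symm.surjective
  refine ⟨f ⟨a, ha⟩, f ⟨b, hb⟩, ?_⟩
  rw [← Set.image_pair, ← MonoidHom.map_closure, htop, Subgroup.map_top_of_surjective f hf]

theorem mem_span_of_single {F : Type*} [Field F] {ι : Type} [Fintype ι] [DecidableEq ι]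
    {S : Submodule F (ι → F)} (h : ∀ k, Pi.single k (1 : F) ∈ S) (x : ι → F) : x ∈ S := by
  rw [pi_eq_sum_univ' x]
  exact Submodule.sum_mem _ fun k _ => S.smul_mem _ (h k)

variable {F : Type*} [Field F] [Fintype F]

/-- The frame of the plus form. -/
def framePlus (n : ℕ) (t : F) (ht : t ≠ 0) : Frame (plusForm F (n + 1)) n where
  E i := Sum.elim (fun j => if j.val = i then 1 else 0) 0
  Fv i := Sum.elim 0 (fun j => if j.val = i then 1 else 0)
  a := Sum.elim (fun j => if j = Fin.last n then 1 else 0) 0
  b := Sum.elim 0 (fun j => if j = Fin.last n then t else 0)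
  qE i hi := by simp [← plusForm_apply, Cfsg.quadFormPlus]
  qF i hi := by simp [← plusForm_apply, Cfsg.quadFormPlus]
  pEF i hi j hj h := by
    rw [plusForm_polar, Finset.sum_eq_zero]
    intro k _
    simp only [Sum.elim_inl, Sum.elim_inr, Pi.zero_apply]
    split_ifs with h1 h2 <;> first | omega | ring
  pEF_self i hi := by
    rw [plusForm_polar, Finset.sum_eq_single ⟨i, by omega⟩]
    · simp
    · intro k _ hk
      have : k.val ≠ i := fun e => hk (Fin.ext e)
      simp [this]
    · simp
  pEE i hi j hj := by simp [plusForm_polar]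
  pFF i hi j hj := by simp [plusForm_polar]
  pEa i hi := by simp [plusForm_polar]
  pFa i hi := by
    rw [plusForm_polar, Finset.sum_eq_zero]
    intro k _
    simp only [Sum.elim_inl, Sum.elim_inr, Pi.zero_apply]
    split_ifs with h1 h2 <;> first | (subst h2; simp at h1; omega) | ring
  pEb i hi := by
    rw [plusForm_polar, Finset.sum_eq_zero]
    intro k _
    simp only [Sum.elim_inl, Sum.elim_inr, Pi.zero_apply]
    split_ifs with h1 h2 <;> first | (subst h2; simp at h1; omega) | ring
  pFb i hi := by simp [plusForm_polar]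
  span_eq x := by
    refine mem_span_of_single (fun k => ?_) x
    rcases k with j | j <;> rcases (Nat.lt_or_ge j.val n) with h | h
    · refine Submodule.subset_span (Or.inl (Or.inl ⟨j.val, h, ?_⟩))
      funext k; rcases k with k | k <;> simp [Pi.single_apply, Fin.val_inj]
    · refine Submodule.subset_span (Or.inr (Or.inl ?_))
      have : j = Fin.last n := Fin.ext (by simp; omega)
      funext k; rcases k with k | k <;> simp [Pi.single_apply, this]
    · refine Submodule.subset_span (Or.inl (Or.inr ⟨j.val, h, ?_⟩))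
      funext k; rcases k with k | k <;> simp [Pi.single_apply, Fin.val_inj]
    · have hj : j = Fin.last n := Fin.ext (by simp; omega)
      have e : (Pi.single (Sum.inr j) (1 : F) : Fin (n + 1) ⊕ Fin (n + 1) → F) =
          t⁻¹ • Sum.elim (0 : Fin (n + 1) → F) (fun j => if j = Fin.last n then t else 0) := by
        funext k; rcases k with k | k <;> simp [Pi.single_apply, hj, ht]
      rw [e]
      exact Submodule.smul_mem _ _ (Submodule.subset_span (Or.inr (Or.inr rfl)))

theorem plus_two (m : ℕ) (hm : 4 ≤ m) :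
    ∃ a b : orthGroup (plusForm F m), Subgroup.closure {a, b} = commutator (orthGroup (plusForm F m)) := by
  classical
  obtain ⟨n, rfl⟩ : ∃ n, m = n + 1 := ⟨m - 1, by omega⟩
  set t : F := (-1) ^ (n - 1) with ht'
  have ht : t ≠ 0 := pow_ne_zero _ (neg_ne_zero.2 one_ne_zero)
  set R := framePlus (F := F) n t ht with hR
  have hQ := plusForm_nondeg (F := F) (n + 1)
  have hfr : Module.finrank F (Fin (n + 1) ⊕ Fin (n + 1) → F) = 2 * (n + 1) := by
    simp [two_mul]
  have h4 : Orth.Good F (Fin (n + 1) ⊕ Fin (n + 1) → F) := good_of (Or.inr (by omega))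
  set c : Fin (n + 1) ⊕ Fin (n + 1) → F := Sum.elim (fun j => if j = Fin.last n then 1 else 0)
    (fun j => if j = Fin.last n then -t else 0) with hcdef
  have hqc : plusForm F (n + 1) c = -t := by
    simp [← plusForm_apply, Cfsg.quadFormPlus, hcdef]
  have hab0 : polar (plusForm F (n + 1)) R.a R.b = t := by
    simp [hR, framePlus, plusForm_polar]
  have hqa : plusForm F (n + 1) R.a = 0 := by simp [hR, framePlus, ← plusForm_apply, Cfsg.quadFormPlus]
  have hqb : plusForm F (n + 1) R.b = 0 := by simp [hR, framePlus, ← plusForm_apply, Cfsg.quadFormPlus]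
  have hce : c = R.a - R.b := by
    funext k; rcases k with k | k <;> simp [hcdef, hR, framePlus]
    split_ifs <;> simp
  have hcE : ∀ i, i < n → polar (plusForm F (n + 1)) c (R.E i) = 0 ∧
      polar (plusForm F (n + 1)) c (R.Fv i) = 0 := fun i hi => by
    simp [hce, sub_eq_add_neg, polar_add_left, polar_neg_left, R.paE hi, R.pbE hi, R.paF hi, R.pbF hi]
  have hca : polar (plusForm F (n + 1)) c R.a = -t := by
    simp [hce, sub_eq_add_neg, polar_add_left, polar_neg_left, polar_self', hqa, polar_comm _ R.b, hab0]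
  refine exists_two R hQ h4 (by omega) (by omega) (v := R.Fv 2 + R.E 2 + R.a) (by rw [hqc]; simpa using ht)
    hcE ?_ ?_ ?_ ?_ ?_
  · rw [refl_apply, hqc, hca, inv_mul_cancel₀ (neg_ne_zero.2 ht), one_smul, hce, sub_sub_cancel]
  · simp [polar_add_right, R.pEF 1 (by omega) 2 (by omega) (by omega), R.pEE 1 (by omega) 2 (by omega),
      R.pEa 1 (by omega)]
  · simp [polar_add_right, R.pEF 0 (by omega) 2 (by omega) (by omega), R.pEE 0 (by omega) 2 (by omega),
      R.pEa 0 (by omega)]
  · simp [polar_add_right, R.pFF 0 (by omega) 2 (by omega), R.pFE (show 0 < n by omega) (show 2 < n by omega)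
      (by omega), R.pFa 0 (by omega)]
  · intro H w S hu
    by_cases h3 : n = 3
    · refine S.three h3 ?_ hu hqa hqb ?_
      · subst h3; rw [hqc, ht']; norm_num
      · rw [hab0, ht', h3]; norm_num
    · refine S.generic (κ := 1) (by omega) (Or.inr (by omega)) (by rwa [one_smul]) ?_ (Or.inl ?_)
      · rw [hqa, add_zero]; exact one_ne_zero
      · rw [hab0]; exact ht

/-- The frame of the odd form. -/
def frameOdd (n : ℕ) : Frame (oddForm F n) n where
  E i := Sum.elim 0 (Sum.elim (fun j => if j.val = i then 1 else 0) 0)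
  Fv i := Sum.elim 0 (Sum.elim 0 (fun j => if j.val = i then 1 else 0))
  a := Sum.elim 1 0
  b := Sum.elim (-1) 0
  qE i hi := by simp [← oddForm_apply, Cfsg.quadFormOdd]
  qF i hi := by simp [← oddForm_apply, Cfsg.quadFormOdd]
  pEF i hi j hj h := by
    rw [oddForm_polar, Finset.sum_eq_zero]
    · simp
    intro k _
    simp only [Sum.elim_inl, Sum.elim_inr, Pi.zero_apply]
    split_ifs with h1 h2 <;> first | omega | ring
  pEF_self i hi := by
    rw [oddForm_polar, Finset.sum_eq_single ⟨i, by omega⟩]
    · simp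
    · intro k _ hk
      have : k.val ≠ i := fun e => hk (Fin.ext e)
      simp [this]
    · simp
  pEE i hi j hj := by simp [oddForm_polar]
  pFF i hi j hj := by simp [oddForm_polar]
  pEa i hi := by simp [oddForm_polar]
  pFa i hi := by simp [oddForm_polar]
  pEb i hi := by simp [oddForm_polar]
  pFb i hi := by simp [oddForm_polar]
  span_eq x := by
    refine mem_span_of_single (fun k => ?_) x
    rcases k with u | j | j
    · refine Submodule.subset_span (Or.inr (Or.inl ?_))
      funext k; rcases k with k | k | k <;> simp [Pi.single_apply]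
    · refine Submodule.subset_span (Or.inl (Or.inl ⟨j.val, j.2, ?_⟩))
      funext k; rcases k with k | k | k <;> simp [Pi.single_apply, Fin.val_inj]
    · refine Submodule.subset_span (Or.inl (Or.inr ⟨j.val, j.2, ?_⟩))
      funext k; rcases k with k | k | k <;> simp [Pi.single_apply, Fin.val_inj]

theorem odd_two (hodd : Odd (Fintype.card F)) (m : ℕ) (hm : 2 ≤ m) :
    ∃ a b : orthGroup (oddForm F m), Subgroup.closure {a, b} = commutator (orthGroup (oddForm F m)) := by
  classical
  have hchar : ringChar F ≠ 2 := by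
    intro h
    have h2 := (FiniteField.even_card_iff_char_two).1 h
    rw [Nat.odd_iff] at hodd
    omega
  have h2 : (2 : F) ≠ 0 := Ring.two_ne_zero hchar
  set R := frameOdd (F := F) m with hR
  have hQ := oddForm_nondeg (F := F) m h2
  have hfr : Module.finrank F (Unit ⊕ (Fin m ⊕ Fin m) → F) = 1 + (m + m) := by simp
  have hqa : oddForm F m R.a = 1 := by simp [hR, frameOdd, ← oddForm_apply, Cfsg.quadFormOdd]
  have hab : R.b = -R.a := by
    funext k; rcases k with k | k | k <;> simp [hR, frameOdd]
  have hab0 : polar (oddForm F m) R.a R.b = -2 := by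
    rw [hab, polar_neg_right, polar_self', hqa, mul_one]
  have ha : ∀ i, i < m → polar (oddForm F m) R.a (R.E i) = 0 ∧ polar (oddForm F m) R.a (R.Fv i) = 0 :=
    fun i hi => ⟨R.paE hi, R.paF hi⟩
  have hrefl : (refl (oddForm F m) R.a).1 R.a = R.b := by
    rw [refl_self _ (by rw [hqa]; exact one_ne_zero), hab]
  by_cases h3 : m = 2
  · refine exists_two R hQ (good_of_two_ne h2) hm (by omega) (c := R.a) (v := R.a) (by rw [hqa]; exact one_ne_zero)
      ha hrefl (R.pEa 1 (by omega)) (R.pEa 0 (by omega)) (R.pFa 0 (by omega)) fun H w S hu => ?_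
    exact S.two h3 hu hab h2 (by rw [hqa]; exact one_ne_zero)
  · refine exists_two R hQ (good_of_two_ne h2) hm (by omega) (c := R.a)
      (v := R.Fv 2 + (0 : F) • R.E 2 + R.a) (by rw [hqa]; exact one_ne_zero) ha hrefl ?_ ?_ ?_ fun H w S hu => ?_
    · simp [polar_add_right, R.pEF 1 (by omega) 2 (by omega) (by omega), R.pEa 1 (by omega)]
    · simp [polar_add_right, R.pEF 0 (by omega) 2 (by omega) (by omega), R.pEa 0 (by omega)]
    · simp [polar_add_right, R.pFF 0 (by omega) 2 (by omega), R.pFa 0 (by omega)]
    · refine S.generic (by omega) (Or.inl rfl) hu ?_ (Or.inr ⟨rfl, h2⟩)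
      rw [hqa, zero_add]; exact one_ne_zero

/-- The frame of the minus form. -/
def frameMinus (n : ℕ) (a b γ δ : F) (hδ : δ ≠ 0) : Frame (minusForm F n a b) n where
  E i := Sum.elim (Sum.elim (fun j => if j.val = i then 1 else 0) 0) 0
  Fv i := Sum.elim (Sum.elim 0 (fun j => if j.val = i then 1 else 0)) 0
  a := Sum.elim 0 ![1, 0]
  b := Sum.elim 0 ![γ, δ]
  qE i hi := by simp [← minusForm_apply, Cfsg.quadFormMinus]
  qF i hi := by simp [← minusForm_apply, Cfsg.quadFormMinus]
  pEF i hi j hj h := by
    rw [minusForm_polar, Finset.sum_eq_zero]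
    · simp
    intro k _
    simp only [Sum.elim_inl, Sum.elim_inr, Pi.zero_apply]
    split_ifs with h1 h2 <;> first | omega | ring
  pEF_self i hi := by
    rw [minusForm_polar, Finset.sum_eq_single ⟨i, by omega⟩]
    · simp
    · intro k _ hk
      have : k.val ≠ i := fun e => hk (Fin.ext e)
      simp [this]
    · simp
  pEE i hi j hj := by simp [minusForm_polar]
  pFF i hi j hj := by simp [minusForm_polar]
  pEa i hi := by simp [minusForm_polar]
  pFa i hi := by simp [minusForm_polar]
  pEb i hi := by simp [minusForm_polar]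
  pFb i hi := by simp [minusForm_polar]
  span_eq x := by
    refine mem_span_of_single (fun k => ?_) x
    rcases k with (j | j) | j
    · refine Submodule.subset_span (Or.inl (Or.inl ⟨j.val, j.2, ?_⟩))
      funext k; rcases k with (k | k) | k <;> simp [Pi.single_apply, Fin.val_inj]
    · refine Submodule.subset_span (Or.inl (Or.inr ⟨j.val, j.2, ?_⟩))
      funext k; rcases k with (k | k) | k <;> simp [Pi.single_apply, Fin.val_inj]
    · fin_cases j
      · refine Submodule.subset_span (Or.inr (Or.inl ?_))
        funext k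
        rcases k with (k | k) | k
        · simp [Pi.single_apply]
        · simp [Pi.single_apply]
        · fin_cases k <;> simp [Pi.single_apply]
      · have e : (Pi.single (Sum.inr 1) (1 : F) : (Fin n ⊕ Fin n) ⊕ Fin 2 → F) =
            δ⁻¹ • Sum.elim (0 : Fin n ⊕ Fin n → F) ![γ, δ] + (-(δ⁻¹ * γ)) • Sum.elim (0 : Fin n ⊕ Fin n → F) ![1, 0] := by
          funext k
          rcases k with (k | k) | k
          · simp [Pi.single_apply]
          · simp [Pi.single_apply]
          · fin_cases k <;> simp [Pi.single_apply, hδ]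
        show (Pi.single (Sum.inr 1) (1 : F) : (Fin n ⊕ Fin n) ⊕ Fin 2 → F) ∈ _
        rw [e]
        exact Submodule.add_mem _ (Submodule.smul_mem _ _ (Submodule.subset_span (Or.inr (Or.inr rfl))))
          (Submodule.smul_mem _ _ (Submodule.subset_span (Or.inr (Or.inl rfl))))

theorem minus_two (m : ℕ) (hm : 3 ≤ m) (a b : F)
    (hab : ∀ z₁ z₂ : F, z₁ ^ 2 + a * z₁ * z₂ + b * z₂ ^ 2 = 0 → z₁ = 0 ∧ z₂ = 0) :
    ∃ g h : orthGroup (minusForm F m a b),
      Subgroup.closure {g, h} = commutator (orthGroup (minusForm F m a b)) := by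
  classical
  -- the vector `(x, 1)` whose reflection moves `(1, 0)`
  obtain ⟨x, hx⟩ : ∃ x : F, 2 * x + a ≠ 0 := by
    by_cases ha : a = 0
    · refine ⟨1, fun h => ?_⟩
      rw [ha, add_zero, mul_one] at h
      obtain ⟨s, hs⟩ := FiniteField.isSquare_of_char_two
        (by by_contra hne; exact Ring.two_ne_zero hne h) b
      exact one_ne_zero (hab s 1 (by rw [ha]; linear_combination (s * s) * h + hs)).2
    · exact ⟨0, by rwa [mul_zero, zero_add]⟩
  set qc : F := x ^ 2 + a * x + b with hqc'
  have hqc0 : qc ≠ 0 := fun h => one_ne_zero (hab x 1 (by rw [hqc'] at h; linear_combination h)).2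
  set k : F := qc⁻¹ * (2 * x + a) with hk
  have hk0 : k ≠ 0 := mul_ne_zero (inv_ne_zero hqc0) hx
  set R := frameMinus (F := F) m a b (1 - k * x) (-k) (neg_ne_zero.2 hk0) with hR
  have hQ := minusForm_nondeg (F := F) m a b hab
  have hfr : Module.finrank F ((Fin m ⊕ Fin m) ⊕ Fin 2 → F) = m + m + 2 := by simp
  have h4 : Orth.Good F ((Fin m ⊕ Fin m) ⊕ Fin 2 → F) := good_of (Or.inr (by omega))
  set c : (Fin m ⊕ Fin m) ⊕ Fin 2 → F := Sum.elim 0 ![x, 1] with hc
  have hqc : minusForm F m a b c = qc := by
    simp [← minusForm_apply, Cfsg.quadFormMinus, hc, hqc']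
  have hqa : minusForm F m a b R.a = 1 := by
    simp [hR, frameMinus, ← minusForm_apply, Cfsg.quadFormMinus]
  have hca : polar (minusForm F m a b) c R.a = 2 * x + a := by
    simp [hR, frameMinus, minusForm_polar, hc]
  have hcE : ∀ i, i < m → polar (minusForm F m a b) c (R.E i) = 0 ∧
      polar (minusForm F m a b) c (R.Fv i) = 0 := fun i hi => by
    simp [hR, frameMinus, minusForm_polar, hc]
  have hrefl : (refl (minusForm F m a b) c).1 R.a = R.b := by
    rw [refl_apply, hqc, hca, ← hk]
    funext l
    rcases l with (l | l) | l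
    · simp [hR, frameMinus, hc]
    · simp [hR, frameMinus, hc]
    · fin_cases l <;> simp [hR, frameMinus, hc]
  refine exists_two R hQ h4 (by omega) (by omega) (c := c)
    (v := R.Fv 2 + (0 : F) • R.E 2 + R.a) (by rw [hqc]; exact hqc0) hcE hrefl ?_ ?_ ?_ fun H w S hu => ?_
  · simp [polar_add_right, R.pEF 1 (by omega) 2 (by omega) (by omega), R.pEa 1 (by omega)]
  · simp [polar_add_right, R.pEF 0 (by omega) 2 (by omega) (by omega), R.pEa 0 (by omega)]
  · simp [polar_add_right, R.pFF 0 (by omega) 2 (by omega), R.pFa 0 (by omega)]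
  · refine S.generic hm (Or.inl rfl) hu (by rw [hqa, zero_add]; exact one_ne_zero) ?_
    by_cases h2 : (2 : F) = 0
    · refine Or.inl fun h0 => ?_
      have e : polar (minusForm F m a b) R.a R.b = 2 - k * (2 * x + a) := by
        rw [← hrefl, refl_apply, hqc, hca, ← hk, sub_eq_add_neg, polar_add_right, polar_neg_right,
          polar_smul_r', polar_self', hqa, polar_comm _ R.a c, hca]
        ring
      rw [e] at h0
      exact mul_ne_zero hk0 hx (by linear_combination h2 - h0)
    · exact Or.inr ⟨rfl, h2⟩

end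

end CfsgLib.KnownA.OrthGen
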