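import Cfsg.Agent.Lib.KnownA.OrthGen.Gen

/-!
# The monomial isometry inside `Ω` and the two generators
-/

set_option autoImplicit false
set_option linter.unusedSectionVars false

namespace CfsgLib.KnownA.OrthGen

open Module QuadraticMap CfsgLib.Orth CfsgLib.Classical

noncomputable section

variable {F V : Type*} [Field F] [AddCommGroup V] [Module F V] [FiniteDimensional F V]
  {Q : QuadraticForm F V} {n : ℕ}

variable (R : Frame Q n) (hQ : (QuadraticMap.polarBilin Q).Nondegenerate)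
include hQ

/-- The rotation of two adjacent pairs. -/
theorem exists_rot {k : ℕ} (hk : k + 1 < n) :
    ∃ g ∈ siegelGroup Q, g.1 (R.E k) = R.E (k + 1) ∧ g.1 (R.E (k + 1)) = -R.E k ∧
      g.1 (R.Fv k) = R.Fv (k + 1) ∧ g.1 (R.Fv (k + 1)) = -R.Fv k ∧
      ∀ x, polar Q (R.E k) x = 0 → polar Q (R.Fv k) x = 0 → polar Q (R.E (k + 1)) x = 0 →
        polar Q (R.Fv (k + 1)) x = 0 → g.1 x = x := by
  have k0 : k < n := by omega
  obtain ⟨X, hX⟩ := exists_isSiegel hQ (R.qF k k0) (u := R.E (k + 1))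
    (R.pFE k0 hk (by omega))
  obtain ⟨Y, hY⟩ := exists_isSiegel hQ (R.qF (k + 1) hk) (u := -R.E k)
    (by rw [polar_neg_right, R.pFE hk k0 (by omega), neg_zero])
  refine ⟨X * Y * X, mul_mem (mul_mem hX.mem hY.mem) hX.mem, ?_, ?_, ?_, ?_, ?_⟩
  all_goals intros
  all_goals
    simp_all [Subgroup.coe_mul, LinearEquiv.mul_apply, IsSiegel, polar_add_right, polar_smul_r',
      polar_neg_right, polar_neg_left, QuadraticMap.map_neg, R.qE k k0, R.qF k k0, R.qE (k + 1) hk,
      R.qF (k + 1) hk, R.pFE_self k0, R.pFE_self hk, R.pEF_self k k0, R.pEF_self (k + 1) hk,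
      R.pFE k0 hk (by omega), R.pFE hk k0 (by omega), R.pEF k k0 (k + 1) hk (by omega),
      R.pEF (k + 1) hk k k0 (by omega), R.pEE k k0 (k + 1) hk, R.pEE (k + 1) hk k k0,
      R.pFF k k0 (k + 1) hk, R.pFF (k + 1) hk k k0, polar_self']

/-- The product of the rotations. -/
theorem exists_chain : ∀ k : ℕ, k < n → ∃ g ∈ siegelGroup Q,
    (∀ i, i < k → g.1 (R.E i) = R.E (i + 1) ∧ g.1 (R.Fv i) = R.Fv (i + 1)) ∧
    g.1 (R.E k) = (-1 : F) ^ k • R.E 0 ∧ g.1 (R.Fv k) = (-1 : F) ^ k • R.Fv 0 ∧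
    ∀ x, (∀ i, i ≤ k → polar Q (R.E i) x = 0 ∧ polar Q (R.Fv i) x = 0) → g.1 x = x := by
  intro k
  induction k with
  | zero =>
    intro _
    refine ⟨1, one_mem _, fun i hi => absurd hi (by omega), ?_, ?_, fun x _ => ?_⟩ <;> simp
  | succ k ih =>
    intro hk
    obtain ⟨N, hN, hNlt, hNE, hNF, hNfix⟩ := ih (by omega)
    obtain ⟨r, hr, rE, rE', rF, rF', rfix⟩ := exists_rot R hQ hk
    refine ⟨N * r, mul_mem hN hr, fun i hi => ?_, ?_, ?_, fun x hx => ?_⟩
    · rcases Nat.lt_succ_iff_lt_or_eq.1 hi with h | h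
      · constructor
        · rw [Subgroup.coe_mul, LinearEquiv.mul_apply,
            rfix _ (R.pEE k (by omega) i (by omega)) (R.pFE (by omega) (by omega) (by omega))
              (R.pEE (k + 1) hk i (by omega)) (R.pFE hk (by omega) (by omega))]
          exact (hNlt i h).1
        · rw [Subgroup.coe_mul, LinearEquiv.mul_apply,
            rfix _ (R.pEF k (by omega) i (by omega) (by omega)) (R.pFF k (by omega) i (by omega))
              (R.pEF (k + 1) hk i (by omega) (by omega)) (R.pFF (k + 1) hk i (by omega))]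
          exact (hNlt i h).2
      · subst h
        constructor
        · rw [Subgroup.coe_mul, LinearEquiv.mul_apply, rE]
          exact hNfix _ fun j hj => ⟨R.pEE j (by omega) _ hk, R.pFE (by omega) hk (by omega)⟩
        · rw [Subgroup.coe_mul, LinearEquiv.mul_apply, rF]
          exact hNfix _ fun j hj => ⟨R.pEF j (by omega) _ hk (by omega), R.pFF j (by omega) _ hk⟩
    · rw [Subgroup.coe_mul, LinearEquiv.mul_apply, rE', map_neg, hNE]
      module
    · rw [Subgroup.coe_mul, LinearEquiv.mul_apply, rF', map_neg, hNF]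
      module
    · rw [Subgroup.coe_mul, LinearEquiv.mul_apply,
        rfix x (hx k (by omega)).1 (hx k (by omega)).2 (hx (k + 1) le_rfl).1 (hx (k + 1) le_rfl).2]
      exact hNfix x fun j hj => hx j (by omega)

omit hQ in
theorem refl_pair {i : ℕ} (hi : i < n) {t : F} (ht : t ≠ 0) :
    Q (R.E i - t • R.Fv i) = -t ∧
    (refl Q (R.E i - t • R.Fv i)).1 (R.E i) = t • R.Fv i ∧
    (refl Q (R.E i - t • R.Fv i)).1 (R.Fv i) = t⁻¹ • R.E i := by
  have hq : Q (R.E i - t • R.Fv i) = -t := by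
    simp [sub_eq_add_neg, quad_add', QuadraticMap.map_neg, quad_smul', polar_smul_r', polar_neg_right,
      R.qE i hi, R.qF i hi, R.pEF_self i hi]
  refine ⟨hq, ?_, ?_⟩
  · have hp : polar Q (R.E i - t • R.Fv i) (R.E i) = -t := by
      simp [sub_eq_add_neg, polar_add_left, polar_neg_left, polar_smul_l', polar_self', R.qE i hi,
        R.pFE_self hi]
    rw [refl_apply, hq, hp, inv_mul_cancel₀ (neg_ne_zero.2 ht), one_smul, sub_sub_cancel]
  · have hp : polar Q (R.E i - t • R.Fv i) (R.Fv i) = 1 := by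
      simp [sub_eq_add_neg, polar_add_left, polar_neg_left, polar_smul_l', polar_self', R.qF i hi,
        R.pEF_self i hi]
    rw [refl_apply, hq, hp, mul_one]
    match_scalars <;> field_simp; ring

variable (h4 : Orth.Good F V) (hn5 : 5 ≤ finrank F V)
include h4

/-- The cycle inside `Ω`. -/
theorem exists_cyc (hn : 2 ≤ n) (hn5 : 5 ≤ finrank F V) (hp : HypPairs Q) {c : V} (hc : Q c ≠ 0)
    (hcE : ∀ i, i < n → polar Q c (R.E i) = 0 ∧ polar Q c (R.Fv i) = 0)
    (hab : (refl Q c).1 R.a = R.b) :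
    ∃ w ∈ commutator (orthGroup Q), Cyc R w ((-1 : F) ^ (n - 1) * -Q c) := by
  obtain ⟨N, hN, hNlt, hNE, hNF, hNfix⟩ := exists_chain R hQ (n - 1) (by omega)
  obtain ⟨hq, hrE, hrF⟩ := refl_pair R (show n - 1 < n by omega) (neg_ne_zero.2 hc)
  set z := R.E (n - 1) - (-Q c) • R.Fv (n - 1) with hz
  refine ⟨N * (refl Q z * refl Q c), ?_, ?_⟩
  · rw [Orth.mem_commutator_iff, map_mul, map_mul,
      ab_refl_eq hQ h4 (a := z) (b := c) (by rw [hq, neg_neg]; exact hc) hc
        ⟨Q c, by rw [hq, neg_neg]⟩, ab_refl_sq, mul_one, ← Orth.mem_commutator_iff,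
      commutator_eq_siegelGroup hQ h4 hp hn5]
    exact hN
  have hzfix : ∀ x, polar Q (R.E (n - 1)) x = 0 → polar Q (R.Fv (n - 1)) x = 0 → (refl Q z).1 x = x :=
    fun x h1 h2 => refl_fix Q (by
      simp [hz, sub_eq_add_neg, polar_add_left, polar_neg_left, polar_smul_l', h1, h2])
  have hn1 : n - 1 < n := by omega
  refine ⟨mul_ne_zero (pow_ne_zero _ (neg_ne_zero.2 one_ne_zero)) (neg_ne_zero.2 hc), ?_, ?_, ?_, ?_,
    ?_, ?_⟩
  · intro i hi
    rw [Subgroup.coe_mul, LinearEquiv.mul_apply, Subgroup.coe_mul, LinearEquiv.mul_apply,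
      refl_fix Q (hcE i (by omega)).1, hzfix _ (R.pEE (n - 1) hn1 i (by omega))
        (R.pFE hn1 (by omega) (by omega))]
    exact (hNlt i (by omega)).1
  · intro i hi
    rw [Subgroup.coe_mul, LinearEquiv.mul_apply, Subgroup.coe_mul, LinearEquiv.mul_apply,
      refl_fix Q (hcE i (by omega)).2, hzfix _ (R.pEF (n - 1) hn1 i (by omega) (by omega))
        (R.pFF (n - 1) hn1 i (by omega))]
    exact (hNlt i (by omega)).2
  · rw [Subgroup.coe_mul, LinearEquiv.mul_apply, Subgroup.coe_mul, LinearEquiv.mul_apply,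
      refl_fix Q (hcE _ hn1).1, hrE, map_smul, hNF, smul_smul, mul_comm]
  · rw [Subgroup.coe_mul, LinearEquiv.mul_apply, Subgroup.coe_mul, LinearEquiv.mul_apply,
      refl_fix Q (hcE _ hn1).2, hrF, map_smul, hNE, smul_smul]
    simp [mul_comm, ← inv_pow, inv_neg]
  · rw [Subgroup.coe_mul, LinearEquiv.mul_apply, Subgroup.coe_mul, LinearEquiv.mul_apply, hab,
      hzfix _ (R.pEb _ hn1) (R.pFb _ hn1)]
    exact hNfix _ fun i hi => ⟨R.pEb i (by omega), R.pFb i (by omega)⟩
  · have hba : (refl Q c).1 R.b = R.a := by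
      rw [← hab, ← LinearEquiv.mul_apply, ← Subgroup.coe_mul, refl_mul_self]
      rfl
    rw [Subgroup.coe_mul, LinearEquiv.mul_apply, Subgroup.coe_mul, LinearEquiv.mul_apply, hba,
      hzfix _ (R.pEa _ hn1) (R.pFa _ hn1)]
    exact hNfix _ fun i hi => ⟨R.pEa i (by omega), R.pFa i (by omega)⟩

omit h4 hQ in
theorem ext_frame {g h : orthGroup Q}
    (hE : ∀ i, i < n → g.1 (R.E i) = h.1 (R.E i)) (hF : ∀ i, i < n → g.1 (R.Fv i) = h.1 (R.Fv i))
    (ha : g.1 R.a = h.1 R.a) (hb : g.1 R.b = h.1 R.b) : g = h := by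
  refine Subtype.ext (LinearEquiv.ext fun x => ?_)
  have hx := R.span_eq x
  induction hx using Submodule.span_induction with
  | mem z hz =>
    rcases hz with (⟨i, hi, rfl⟩ | ⟨i, hi, rfl⟩) | rfl | rfl
    · exact hE i hi
    · exact hF i hi
    · exact ha
    · exact hb
  | zero => simp
  | add z z' _ _ h1 h2 => rw [map_add, map_add, h1, h2]
  | smul c z _ h1 => rw [map_smul, map_smul, h1]

omit h4 in
theorem siegel_pow {d v : V} {u : orthGroup Q} (hu : IsSiegel u d v) (k : ℕ) :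
    IsSiegel (u ^ k) d ((k : F) • v) := by
  induction k with
  | zero => rw [pow_zero, Nat.cast_zero, zero_smul]; exact isSiegel_one hu.1
  | succ k ih =>
    rw [pow_succ, Nat.cast_succ, add_smul, one_smul]
    exact ih.mul hu

/-- `Ω` is generated by the cycle and the product of a torus element with a Siegel transformation. -/
theorem exists_two [Fintype F] (hn : 2 ≤ n) (hn5 : 5 ≤ finrank F V) {c v : V} (hc : Q c ≠ 0)
    (hcE : ∀ i, i < n → polar Q c (R.E i) = 0 ∧ polar Q c (R.Fv i) = 0)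
    (hab : (refl Q c).1 R.a = R.b) (hv1 : polar Q (R.E 1) v = 0) (hvE : polar Q (R.E 0) v = 0)
    (hvF : polar Q (R.Fv 0) v = 0)
    (gen : ∀ (H : Subgroup (orthGroup Q)) (w : orthGroup Q),
      Setup R H w ((-1 : F) ^ (n - 1) * -Q c) → SiegelIn H (R.E 1) v → siegelGroup Q ≤ H) :
    ∃ a b : orthGroup Q, Subgroup.closure {a, b} = commutator (orthGroup Q) := by
  classical
  have n0 : 0 < n := by omega
  have n1 : 1 < n := by omega
  let hp : HypPairs Q :=
    ⟨R.E 0, R.Fv 0, R.E 1, R.Fv 1, R.qE 0 n0, R.qF 0 n0, R.qE 1 n1, R.qF 1 n1, R.pEF_self 0 n0,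
      R.pEF_self 1 n1, R.pEE 0 n0 1 n1, R.pEF 0 n0 1 n1 (by omega), R.pFE n0 n1 (by omega),
      R.pFF 0 n0 1 n1⟩
  obtain ⟨w, hwC, hw⟩ := exists_cyc R hQ h4 hn hn5 hp hc hcE hab
  obtain ⟨ω, hω⟩ := IsCyclic.exists_generator (α := Fˣ)
  set t : F := (ω : F) * ω with ht
  have ht0 : t ≠ 0 := mul_ne_zero ω.ne_zero ω.ne_zero
  obtain ⟨hq1, h1E, h1F⟩ := refl_pair R n0 (one_ne_zero (α := F))
  obtain ⟨hqt, htE, htF⟩ := refl_pair R n0 ht0
  set h : orthGroup Q := refl Q (R.E 0 - (1 : F) • R.Fv 0) * refl Q (R.E 0 - t • R.Fv 0) with hh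
  have hhC : h ∈ commutator (orthGroup Q) := by
    rw [Orth.mem_commutator_iff, hh, map_mul, ab_refl_eq hQ h4 (a := R.E 0 - (1 : F) • R.Fv 0)
      (b := R.E 0 - t • R.Fv 0) (by rw [hq1]; exact neg_ne_zero.2 one_ne_zero)
      (by rw [hqt]; exact neg_ne_zero.2 ht0) ⟨(ω : F), by rw [hq1, hqt, ht]; ring⟩, ab_refl_sq]
  have hE0 : h.1 (R.E 0) = t • R.E 0 := by
    rw [hh, Subgroup.coe_mul, LinearEquiv.mul_apply, htE, map_smul, h1F, inv_one, one_smul]
  have hF0 : h.1 (R.Fv 0) = t⁻¹ • R.Fv 0 := by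
    rw [hh, Subgroup.coe_mul, LinearEquiv.mul_apply, htF, map_smul, h1E, one_smul]
  have hfix : ∀ x, polar Q (R.E 0) x = 0 → polar Q (R.Fv 0) x = 0 → h.1 x = x := by
    intro x h1 h2
    have e : ∀ r : F, (refl Q (R.E 0 - r • R.Fv 0)).1 x = x := fun r => refl_fix Q (by
      simp [sub_eq_add_neg, polar_add_left, polar_neg_left, polar_smul_l', h1, h2])
    rw [hh, Subgroup.coe_mul, LinearEquiv.mul_apply, e, e]
  obtain ⟨u, hu⟩ := exists_isSiegel hQ (R.qE 1 n1) hv1
  have huC : u ∈ commutator (orthGroup Q) := hu.mem_commutator hQ h4 hp hn5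
  have hE1 : h.1 (R.E 1) = R.E 1 := hfix _ (R.pEE 0 n0 1 n1) (R.pFE n0 n1 (by omega))
  have hcomm : Commute h u := by
    have h2 := hu.conj h
    rw [hE1, hfix v hvE hvF] at h2
    have := h2.unique hu
    rw [Commute, SemiconjBy]
    calc h * u = (h * u * h⁻¹) * h := by group
      _ = u * h := by rw [this]
  refine ⟨h * u, w, ?_⟩
  set H := Subgroup.closure ({h * u, w} : Set (orthGroup Q))
  refine le_antisymm ((Subgroup.closure_le _).2 ?_) ?_
  · rintro x (rfl | rfl)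
    · exact mul_mem hhC huC
    · exact hwC
  have hwH : w ∈ H := Subgroup.subset_closure (by simp)
  have huq : u ^ Fintype.card F = 1 := by
    have h1 := siegel_pow hQ hu (Fintype.card F)
    rw [Nat.cast_card_eq_zero, zero_smul] at h1
    exact h1.unique (isSiegel_one hu.1)
  have hhq : h ^ Fintype.card F = h := by
    have hpow : ∀ k : ℕ, (h ^ k).1 (R.E 0) = t ^ k • R.E 0 ∧ (h ^ k).1 (R.Fv 0) = t⁻¹ ^ k • R.Fv 0 ∧
        ∀ x, polar Q (R.E 0) x = 0 → polar Q (R.Fv 0) x = 0 → (h ^ k).1 x = x := by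
      intro k
      induction k with
      | zero => simp
      | succ k ih =>
        obtain ⟨a1, a2, a3⟩ := ih
        refine ⟨?_, ?_, fun x h1 h2 => ?_⟩
        · rw [pow_succ, Subgroup.coe_mul, LinearEquiv.mul_apply, hE0, map_smul, a1, smul_smul, pow_succ']
        · rw [pow_succ, Subgroup.coe_mul, LinearEquiv.mul_apply, hF0, map_smul, a2, smul_smul, pow_succ']
        · rw [pow_succ, Subgroup.coe_mul, LinearEquiv.mul_apply, hfix x h1 h2, a3 x h1 h2]
    obtain ⟨p1, p2, p3⟩ := hpow (Fintype.card F)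
    refine ext_frame R (fun i hi => ?_) (fun i hi => ?_) ?_ ?_
    · rcases Nat.eq_zero_or_pos i with rfl | h0
      · rw [p1, hE0, FiniteField.pow_card]
      · rw [p3 _ (R.pEE 0 n0 i hi) (R.pFE n0 hi (by omega)),
          hfix _ (R.pEE 0 n0 i hi) (R.pFE n0 hi (by omega))]
    · rcases Nat.eq_zero_or_pos i with rfl | h0
      · rw [p2, hF0, FiniteField.pow_card]
      · rw [p3 _ (R.pEF 0 n0 i hi (by omega)) (R.pFF 0 n0 i hi),
          hfix _ (R.pEF 0 n0 i hi (by omega)) (R.pFF 0 n0 i hi)]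
    · rw [p3 _ (R.pEa 0 n0) (R.pFa 0 n0), hfix _ (R.pEa 0 n0) (R.pFa 0 n0)]
    · rw [p3 _ (R.pEb 0 n0) (R.pFb 0 n0), hfix _ (R.pEb 0 n0) (R.pFb 0 n0)]
  have hhH : h ∈ H := by
    have := pow_mem (Subgroup.subset_closure (show h * u ∈ ({h * u, w} : Set (orthGroup Q)) by simp) :
      h * u ∈ H) (Fintype.card F)
    rwa [hcomm.mul_pow, huq, hhq, mul_one] at this
  have huH : u ∈ H := by
    have := mul_mem (inv_mem hhH) (Subgroup.subset_closure
      (show h * u ∈ ({h * u, w} : Set (orthGroup Q)) by simp) : h * u ∈ H)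
    rwa [inv_mul_cancel_left] at this
  rw [commutator_eq_siegelGroup hQ h4 hp hn5]
  refine gen H w ⟨hQ, hw, hwH, ω, hω, h, hhH, hE0, fun x hx => ?_⟩ fun g hg => by
    rwa [hg.unique hu]
  refine ⟨polar Q (R.Fv 0) x * (t - 1), ?_⟩
  have h' := hfix (x - polar Q (R.Fv 0) x • R.E 0)
    (by simp [sub_eq_add_neg, polar_add_right, polar_neg_right, polar_smul_r', polar_self', R.qE 0 n0, hx])
    (by simp [sub_eq_add_neg, polar_add_right, polar_neg_right, polar_smul_r', R.pFE_self n0])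
  rw [map_sub, map_smul, hE0] at h'
  linear_combination (norm := module) h'

end

end CfsgLib.KnownA.OrthGen
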